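import Cfsg.Agent.Lib.Fus.MathieuTwoGroups
import Cfsg.Agent.Lib.Spor.Cos.Sift
import Cfsg.Agent.Lib.Spor.Golay.AutM22
import Cfsg.Agent.Lib.Spor.MTwentyTwoMult.Data

/-! The two-point stabiliser of the code on its three involutions. -/

set_option autoImplicit false
set_option maxRecDepth 100000
set_option maxHeartbeats 4000000

open Cfsg.Agent.Spor.Cos
open Cfsg.Agent.Spor.Golay (get inM24 permOf idx pt)
open scoped Pointwise

namespace Cfsg.Agent.Spor.MTwentyTwo

/-- The group. -/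
abbrev G22 : Type := ↥Cfsg.Spor.M22

/-- A packed element of the group. -/
def chkMem (P : ℕ) : Bool :=
  inM24 P && [8388608, 1].all fun x => Cfsg.Agent.Spor.Golay.imgMask (get P) x == x

theorem mem_of_chk {P : ℕ} (h : chkMem P = true) : permOf P ∈ Cfsg.Spor.M22 := by
  simp only [chkMem, Bool.and_eq_true, List.all_eq_true, beq_iff_eq] at h
  have hv : Cfsg.Agent.Spor.Golay.valid P = true := by
    have := h.1
    rw [inM24, Bool.and_eq_true] at this
    exact this.1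
  rw [Cfsg.Agent.Fus.Mathieu.fix22, Cfsg.Agent.Spor.Golay.mem_Fix]
  refine ⟨Cfsg.Agent.Spor.Golay.permOf_mem_M24 h.1, fun x hx => ?_, by simp⟩
  rw [Cfsg.Agent.Spor.Golay.permOf_smul_pts hv, h.2 x hx]

/-- The generators. -/
noncomputable def gT (s : ℕ) : G22 :=
  if h : s < 3 ∧ chkMem (genP.getD s 0) = true then ⟨permOf (genP.getD s 0), mem_of_chk h.2⟩ else 1

theorem gT_out (s : ℕ) (hs : 3 ≤ s) : gT s = 1 := by rw [gT, dif_neg fun h => absurd h.1 (not_lt.2 hs)]

theorem gen_ok : ∀ s < 3, chkMem (genP.getD s 0) = true ∧ Cfsg.Agent.Spor.Golay.valid (genP.getD s 0) = true := by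
  decide +kernel

/-- The points as numbers. -/
def toFin : Cfsg.GolayPt ≃ Fin actA.N where
  toFun p := ⟨idx p, Cfsg.Agent.Spor.Golay.idx_lt p⟩
  invFun i := pt i.1
  left_inv p := Cfsg.Agent.Spor.Golay.pt_idx p
  right_inv i := Fin.ext (Cfsg.Agent.Spor.Golay.idx_pt i.2)

/-- The action on the numbers. -/
def piA : G22 →* Equiv.Perm (Fin actA.N) :=
  (Equiv.permCongrHom toFin).toMonoidHom.comp (Cfsg.Spor.M22).subtype

theorem piA_val (y : G22) (p : Fin actA.N) : (piA y p : ℕ) = idx (y.1 (pt p.1)) := rfl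

theorem act_inv : ∀ p < actA.N, actA.chkInv p = true := by
  intro p hp
  replace hp : p < 24 := hp
  interval_cases p <;> decide +kernel

theorem act_table : ∀ p < 24, ∀ s < 3, actA.im p s = get (genP.getD s 0) p := by decide +kernel

theorem homA : actA.Hom gT piA := by
  refine ⟨act_inv, fun s => Equiv.ext fun p => Fin.ext ?_⟩
  by_cases hs : s < 3
  · rw [actA.perm_apply act_inv hs, piA_val, gT, dif_pos ⟨hs, (gen_ok s hs).1⟩, act_table p.1 p.2 s hs]
    show idx (permOf _ (pt p.1)) = _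
    rw [Cfsg.Agent.Spor.Golay.idx_permOf (gen_ok s hs).2, Cfsg.Agent.Spor.Golay.idx_pt p.2]
  · rw [gT_out s (not_lt.1 hs), map_one, actA.perm_out s (not_lt.1 hs)]

theorem det (y : G22)
    (h : ∀ q : Fin actA.N, (q : ℕ) ∈ [0, 1, 2, 3, 4, 5, 6, 7, 8, 9, 10, 11, 12, 13, 14, 15, 16, 17, 18, 19, 20, 21,
      22, 23] → piA y q = q) : y = 1 := by
  refine Subtype.ext (Equiv.ext fun p => Cfsg.Agent.Spor.Golay.idx_injective ?_)
  have hm : ∀ n < 24, n ∈ [0, 1, 2, 3, 4, 5, 6, 7, 8, 9, 10, 11, 12, 13, 14, 15, 16, 17, 18, 19, 20, 21, 22, 23] := by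
    decide
  have e := congrArg Fin.val (h (toFin p) (hm _ (toFin p).2))
  rw [piA_val] at e
  simpa [toFin, Cfsg.Agent.Spor.Golay.pt_idx] using e

/-- A known generator as a word. -/
noncomputable def chkWord (P : ℕ) (w : List ℕ) : Bool :=
  w.all (fun s => Nat.blt s 3) && (List.range 24).all fun i => Nat.beq (actA.go w i) (get P i)

theorem mem_closure {P : ℕ} (hv : Cfsg.Agent.Spor.Golay.valid P = true) {w : List ℕ} (h : chkWord P w = true) :
    permOf P ∈ (Subgroup.closure {x | ∃ s < 3, gT s = x}).map (Cfsg.Spor.M22).subtype := by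
  simp only [chkWord, Bool.and_eq_true, List.all_eq_true, List.mem_range] at h
  have hl : ∀ s ∈ w, s < 3 := fun s hs => Nat.le_of_ble_eq_true (h.1 s hs)
  refine ⟨ev gT w, ev_mem _ fun s hs => Subgroup.subset_closure ⟨s, hl s hs, rfl⟩,
    Cfsg.Agent.Spor.Golay.eq_permOf hv fun i hi => ?_⟩
  show idx ((ev gT w).1 (pt i)) = _
  rw [← piA_val (ev gT w) ⟨i, hi⟩, homA.apply_ev w hl]
  exact Nat.eq_of_beq_eq_true (h.2 i hi)

theorem words_ok :
    (chkWord Cfsg.Agent.Spor.Golay.Aut.c22.A (oldWords.getD 0 []) = true ∧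
      chkWord Cfsg.Agent.Spor.Golay.Aut.c22.C (oldWords.getD 1 []) = true ∧
      chkWord Cfsg.Agent.Spor.Golay.Aut.c22.T (oldWords.getD 2 []) = true) := by decide +kernel

theorem gen : Subgroup.closure {x | ∃ s < 3, gT s = x} = ⊤ := by
  obtain ⟨hP, -⟩ := Cfsg.Agent.Spor.Golay.Aut.c22.gen_facts Cfsg.Agent.Spor.Golay.Aut.gen22_check
  obtain ⟨hA, hC, hT⟩ := words_ok
  rw [eq_top_iff]
  intro x _
  have hx : x.1 ∈ Cfsg.Agent.Spor.Golay.Aut.c22.grp := by
    rw [show Cfsg.Agent.Spor.Golay.Aut.c22.grp = Cfsg.Agent.Spor.Golay.Fix [8388608, 1] [] from rfl,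
      ← Cfsg.Agent.Fus.Mathieu.fix22]
    exact x.2
  have hle : Subgroup.closure {permOf Cfsg.Agent.Spor.Golay.Aut.c22.A, permOf Cfsg.Agent.Spor.Golay.Aut.c22.C,
      permOf Cfsg.Agent.Spor.Golay.Aut.c22.T} ≤
      (Subgroup.closure {x | ∃ s < 3, gT s = x}).map (Cfsg.Spor.M22).subtype := by
    rw [Subgroup.closure_le]
    rintro p (rfl | rfl | rfl)
    · exact mem_closure (hP _ (by simp)).1 hA
    · exact mem_closure (hP _ (by simp)).1 hC
    · exact mem_closure (hP _ (by simp)).1 hT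
  obtain ⟨y, hy, e⟩ := hle (Cfsg.Agent.Spor.Golay.Aut.gen22 hx)
  rwa [Subtype.ext e] at hy

theorem card_G22 : Nat.card G22 = 443520 := Cfsg.Agent.Fus.Mathieu.card22

end Cfsg.Agent.Spor.MTwentyTwo
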