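import Cfsg.Agent.Lib.Grp.SchurM.SubsetAct
import Cfsg.Agent.Lib.Spor.MTwentyTwoMult.Two

/-! The actions on 231 pairs, on 1232 sets of seven points and on one point. -/

set_option autoImplicit false
set_option maxRecDepth 100000
set_option maxHeartbeats 4000000

open Cfsg.Agent.Spor.Cos Cfsg.Agent.Grp.SchurM

namespace Cfsg.Agent.Spor.MTwentyTwo

/-- The points of a pair. -/
noncomputable def pairPts (i : ℕ) : List ℕ := [ptsP.at i % 65536, (ptsP.at i >>> 16) % 65536]

/-- The points of a set of seven. -/
noncomputable def sevenPts (i : ℕ) : List ℕ := (List.range 7).map fun k => (ptsH.at i >>> (16 * k)) % 65536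

theorem pairInv : ∀ i < 231, actP.chkInv i = true :=
  of_blocks (size := 231) (b := 1) (by decide) (by decide) fun j hj => by interval_cases j <;> decide +kernel

theorem pairChk : ∀ i < 231, chkSubset actA actP setP pairPts i = true :=
  of_blocks (size := 77) (b := 3) (by decide) (by decide) fun j hj => by interval_cases j <;> decide +kernel

theorem exists_homP : ∃ θ : G22 →* Equiv.Perm (Fin actP.N), actP.Hom gT θ :=
  exists_subset_hom homA rfl gen gT_out pairInv pairChk

theorem sevenInv : ∀ i < 1232, actH.chkInv i = true :=
  of_blocks (size := 308) (b := 4) (by decide) (by decide) fun j hj => by interval_cases j <;> decide +kernel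

theorem sevenChk : ∀ i < 1232, chkSubset actA actH setH sevenPts i = true :=
  of_blocks (size := 154) (b := 8) (by decide) (by decide) fun j hj => by interval_cases j <;> decide +kernel

theorem exists_homH : ∃ θ : G22 →* Equiv.Perm (Fin actH.N), actH.Hom gT θ :=
  exists_subset_hom homA rfl gen gT_out sevenInv sevenChk

theorem homOne : actOne.Hom gT (1 : G22 →* Equiv.Perm (Fin actOne.N)) := by
  refine ⟨by decide +kernel, fun s => Equiv.ext fun p => ?_⟩
  have : Subsingleton (Fin actOne.N) := inferInstanceAs (Subsingleton (Fin 1))
  exact Subsingleton.elim _ _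

end Cfsg.Agent.Spor.MTwentyTwo
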