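import Cfsg.Agent.Lib.Grp.SchurM.SignCyclic
import Cfsg.Agent.Lib.Spor.MTwentyTwoMult.Points
import Cfsg.Agent.Lib.Spor.MTwentyTwoMult.SignThreeData
import Cfsg.Agent.Lib.Spor.MTwentyTwoMult.SignFourData

/-! Shifts modulo three on pairs and modulo four on sets of seven. -/

set_option autoImplicit false
set_option maxRecDepth 100000
set_option maxHeartbeats 4000000

open Cfsg.Agent.Spor.Cos Cfsg.Agent.Grp.SchurM

namespace Cfsg.Agent.Spor.MTwentyTwo

/-- The tables modulo three. -/
def signP : SignTab := ⟨actP, 3, actOne, sgP, edP, 1, paP, 0⟩

/-- The tables modulo four. -/
def signH : SignTab := ⟨actH, 4, actOne, sgH, edH, 1, paH, 0⟩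

theorem okP : signP.OkCyc where
  one_lt := by decide
  root_lt := by decide
  step := of_blocks (size := 77) (b := 3) (by decide) (by decide) fun j hj => by interval_cases j <;> decide +kernel
  apart := of_blocks (size := 231) (b := 1) (by decide) (by decide) fun j hj => by interval_cases j <;> decide +kernel
  pred := of_blocks (size := 231) (b := 1) (by decide) (by decide) fun j hj => by interval_cases j <;> decide +kernel

theorem okH : signH.OkCyc where
  one_lt := by decide
  root_lt := by decide
  step := of_blocks (size := 77) (b := 16) (by decide) (by decide) fun j hj => by interval_cases j <;> decide +kernel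
  apart := of_blocks (size := 154) (b := 8) (by decide) (by decide) fun j hj => by interval_cases j <;> decide +kernel
  pred := of_blocks (size := 616) (b := 2) (by decide) (by decide) fun j hj => by interval_cases j <;> decide +kernel

theorem shiftP : signP.chkUnit comUP comWP = true := by decide +kernel

theorem shiftH : signH.chkUnit comUH comWH = true := by decide +kernel

end Cfsg.Agent.Spor.MTwentyTwo
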