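import Cfsg.Agent.Lib.Spor.Cos.Sift
import Cfsg.Agent.Lib.Spor.MTwentyTwoMult.Sign

/-! Commuting words for the two covers. -/

set_option autoImplicit false
set_option maxRecDepth 100000

open Cfsg.Agent.Spor.Cos

namespace Cfsg.Agent.Spor.MTwentyTwo

theorem commP : ev gT (comUP ++ comWP) = ev gT (comWP ++ comUP) :=
  ev_eq_of_agree homA det (by decide +kernel) (by decide +kernel) (by decide +kernel)

theorem commH : ev gT (comUH ++ comWH) = ev gT (comWH ++ comUH) :=
  ev_eq_of_agree homA det (by decide +kernel) (by decide +kernel) (by decide +kernel)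

end Cfsg.Agent.Spor.MTwentyTwo
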