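import Cfsg.Agent.Lib.Grp.SchurM.TailTable
import Cfsg.Agent.Lib.Spor.MTwentyTwoMult.Two

/-! A Sylow 11-subgroup of the two-point stabiliser of the code with equations for the tails. -/

set_option autoImplicit false
set_option maxRecDepth 100000
set_option maxHeartbeats 8000000

open Cfsg.Agent.Grp.SchurM.Tails

namespace Cfsg.Agent.Spor.MTwentyTwo

/-- Presentation of the Sylow 11-subgroup. -/
def pc11 : PC where
  p := 11
  n := 1
  rhs := [[]]
  defs := []

/-- Elements of the Sylow 11-subgroup. -/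
def els11 : List (List ℕ) :=
   [[0, 0],
    [0, 0, 0, 0, 0, 0, 0, 0, 0],
    [0, 0, 0, 0, 0, 0, 0, 0],
    [0, 0, 0, 0, 0, 0],
    [0, 0, 0, 0, 0, 0, 0, 0, 0, 0],
    [0, 0, 0, 0, 0],
    [0],
    [0, 0, 0, 0, 0, 0, 0],
    [0, 0, 0],
    [0, 0, 0, 0],
    []]

/-- Conjugation data. -/
def conj11 : List Conj :=
   [(0, [0, 0], [0, 0, 0, 0, 0, 0, 0, 0])]

/-- Equations between tails. -/
def cert11 : Cert where
  eqns := [.fus [0] [0, 0, 0, 0, 0, 0, 0, 0, 0, 0, 0] []]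
  free := 1
  combo := [[0, 0, 0, 0, 0, 0, 0, 0, 0]]

/-- The certificate. -/
def tab11 : TableCert where
  P := pc11
  ews := [[2, 0, 1, 0, 2, 0, 1, 0, 1, 2, 0, 1, 2, 1, 0, 2, 0, 1, 2, 0, 1]]
  gws := [[0, 2, 1, 0, 1, 0, 1, 2, 0, 2, 1, 0, 2, 1, 2, 1, 0, 1, 0]]
  C := conj11
  K := cert11
  els := els11

theorem tab11_rel : tab11.chkRel actA [0, 1, 2, 3, 4, 5, 6, 7, 8, 9, 10, 11, 12, 13, 14, 15, 16, 17, 18, 19, 20, 21, 22, 23] = true := by decide +kernel

theorem tab11_card : tab11.chkCard actA [0, 1, 2, 3, 4, 5, 6, 7, 8, 9, 10, 11, 12, 13, 14, 15, 16, 17, 18, 19, 20, 21, 22, 23] = true := by decide +kernel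

theorem tab11_tails : tab11.K.check tab11.P tab11.C = true := by decide +kernel

theorem sylow11 : Nonempty (SylowCert G22 11) :=
  TableCert.sylowCert homA (by decide +kernel) det card_G22 rfl (by decide) tab11_rel tab11_card tab11_tails
    (le_of_eq rfl) (by decide +kernel)

end Cfsg.Agent.Spor.MTwentyTwo
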