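import Cfsg.Agent.Lib.Grp.SchurM.TailExp
import Cfsg.Agent.Lib.Spor.MTwentyTwoMult.Two

/-! A Sylow 2-subgroup of the two-point stabiliser of the code with equations for the tails. -/

set_option autoImplicit false
set_option maxRecDepth 100000
set_option maxHeartbeats 8000000

open Cfsg.Agent.Grp.SchurM.Tails

namespace Cfsg.Agent.Spor.MTwentyTwo

/-- Presentation of the Sylow 2-subgroup. -/
def pc2 : PC where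
  p := 2
  n := 7
  rhs := [[5, 6],
    [0, 1, 3, 5],
    [3],
    [0, 2],
    [1, 2, 4],
    [5],
    [0, 3, 6],
    [1, 3],
    [2, 3, 5],
    [],
    [0, 4, 5, 6],
    [1, 4, 5],
    [2, 4, 6],
    [3, 4, 6],
    [],
    [0, 5],
    [1, 5, 6],
    [2, 5],
    [3, 5],
    [4, 5],
    [],
    [0, 6],
    [1, 6],
    [2, 6],
    [3, 6],
    [4, 6],
    [5, 6],
    []]
  defs := [(3, 1, 1), (4, 2, 1), (5, 3, 2), (6, 5, 1)]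

/-- Elements of the Sylow 2-subgroup. -/
def els2 : List (List ℕ) :=
   [[1, 3, 4, 5],
    [3, 5, 6],
    [0, 1, 3, 5],
    [1, 4, 6],
    [0, 1],
    [0, 3, 4],
    [6],
    [0, 4, 5, 6],
    [0, 6],
    [1, 5],
    [0, 3, 5, 6],
    [3, 4, 5, 6],
    [4],
    [0, 1, 3, 4, 5],
    [0, 1, 4, 6],
    [1, 3],
    [1, 2, 4, 5],
    [0, 2, 3, 5, 6],
    [2, 3, 4, 5, 6],
    [0, 2, 6],
    [2, 4],
    [0, 1, 2, 6],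
    [1, 2, 3, 4, 6],
    [0, 1, 2, 3, 5, 6],
    [4, 6],
    [0, 1, 3, 4, 5, 6],
    [3, 4, 5],
    [0, 3, 5],
    [0],
    [1, 5, 6],
    [1, 3, 6],
    [0, 1, 4],
    [0, 3, 6],
    [0, 1, 4, 5],
    [0, 5, 6],
    [4, 5],
    [3, 4, 6],
    [1, 3, 5, 6],
    [1, 6],
    [0, 1, 3, 4, 6],
    [3, 4],
    [1, 3, 5],
    [4, 5, 6],
    [0, 5],
    [0, 3],
    [0, 1, 4, 5, 6],
    [0, 1, 3, 4],
    [1],
    [0, 1, 3, 6],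
    [5, 6],
    [1, 3, 4, 6],
    [0, 1, 5, 6],
    [1, 4, 5],
    [0, 4, 6],
    [3, 6],
    [0, 3, 4, 5],
    [2, 5, 6],
    [1, 2, 3],
    [0, 1, 2, 4, 5, 6],
    [0, 1, 2, 3, 4],
    [1, 2, 5],
    [2, 3, 6],
    [0, 2, 3, 4, 5],
    [0, 2, 4, 6],
    [0, 1, 2, 5],
    [0, 2, 5, 6],
    [2, 4, 5],
    [0, 2, 3, 6],
    [2, 3, 4, 6],
    [1, 2, 4, 6],
    [0, 1, 2, 3],
    [1, 2, 3, 4, 5],
    [1, 2, 3, 4, 5, 6],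
    [2, 4, 5, 6],
    [0, 2, 5],
    [2, 3, 4],
    [0, 2, 3],
    [0, 1, 2, 3, 6],
    [1, 2, 4],
    [0, 1, 2, 5, 6],
    [0, 1, 2, 3, 5],
    [2, 3, 4, 5],
    [0, 2, 3, 5],
    [2, 4, 6],
    [0, 2],
    [1, 2, 3, 4],
    [0, 1, 2],
    [1, 2, 4, 5, 6],
    [0, 2, 4],
    [0, 1, 2, 4, 5],
    [1, 2, 3, 6],
    [1, 2, 5, 6],
    [0, 1, 2, 3, 4, 6],
    [0, 2, 3, 4, 5, 6],
    [2, 3],
    [2, 5],
    [1, 4, 5, 6],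
    [0, 4],
    [0, 1, 5],
    [1, 3, 4],
    [0, 1, 3],
    [5],
    [0, 3, 4, 5, 6],
    [3],
    [2, 3, 5, 6],
    [0, 1, 2, 3, 4, 5, 6],
    [1, 2, 6],
    [1, 2, 3, 5, 6],
    [0, 1, 2, 4],
    [2, 6],
    [0, 2, 4, 5, 6],
    [0, 2, 3, 4],
    [0, 2, 3, 4, 6],
    [1, 2],
    [0, 1, 2, 3, 4, 5],
    [0, 1, 2, 4, 6],
    [1, 2, 3, 5],
    [0, 2, 4, 5],
    [2],
    [2, 3, 5],
    [0, 1, 6],
    [0, 3, 4, 6],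
    [1, 4],
    [0, 1, 3, 5, 6],
    [1, 3, 4, 5, 6],
    [3, 5],
    [0, 4, 5],
    []]

/-- Conjugation data. -/
def conj2 : List Conj :=
   [(0, [0, 1, 2, 4, 5, 6], [2, 4, 6]),
    (0, [2, 5], [0, 1, 2, 4, 6]),
    (0, [2, 3], [2, 3, 4, 6]),
    (1, [2, 3, 5], [2, 3, 5]),
    (1, [4, 6], [2, 3, 4]),
    (1, [5, 6], [5, 6]),
    (1, [2, 3, 5, 6], [6]),
    (2, [2, 3, 4, 5, 6], [4, 5, 6]),
    (2, [0, 3], [0, 2, 5]),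
    (2, [3, 4, 6], [0, 2, 3]),
    (2, [4, 5], [2, 3, 4, 6]),
    (3, [0, 1], [3, 5, 6]),
    (3, [0, 1, 3, 5, 6], [0, 1, 3, 5]),
    (3, [3, 5], [3, 5])]

/-- Equations between tails. -/
def cert2 : Cert where
  eqns := [.cons [2, 1, 0] 0 1,
    .cons [3, 1, 0] 0 1,
    .cons [3, 2, 0] 0 1,
    .cons [3, 2, 1] 0 1,
    .cons [4, 1, 0] 0 1,
    .cons [4, 2, 0] 0 1,
    .cons [4, 2, 1] 0 1,
    .cons [4, 3, 0] 0 1,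
    .cons [4, 3, 1] 0 1,
    .cons [4, 3, 2] 0 1,
    .cons [5, 1, 0] 0 1,
    .cons [1, 1, 0] 0 1,
    .cons [1, 0, 0] 0 1,
    .cons [1, 1, 1] 0 1,
    .cons [2, 2, 0] 0 1,
    .cons [2, 2, 1] 0 1,
    .cons [2, 1, 1] 0 1,
    .cons [3, 3, 2] 0 1,
    .fus [0, 1, 2] [0, 2, 0] [2],
    .fus [0, 1, 2] [2, 0, 0] [0, 0, 2],
    .fus [3, 4, 5, 6] [1, 1] [],
    .fus [7, 8, 9, 10] [1, 2, 2] [0, 1, 0],
    .fus [11, 12, 13] [2, 0] [0, 2]]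
  free := 3
  combo := [[0, 2, 3, 6, 7, 8, 10, 12, 13, 14, 16, 17, 19, 21, 22],
    [1, 3, 4, 9, 10, 11, 12, 14, 15, 17, 18, 19, 21, 22],
    [],
    [],
    [],
    [0, 3, 6, 7, 9, 11, 14, 15, 16, 19, 20, 22],
    [11, 12, 22],
    [13],
    [],
    [1, 5, 6, 7, 9, 12, 13, 17, 22],
    [0, 1, 4, 6, 7, 10, 11, 12, 13, 17],
    [0, 2, 6, 7, 8, 14, 17, 19],
    [0, 2, 3, 4, 5, 7, 8, 9, 10, 15, 16, 19],
    [2, 4, 5, 6, 7, 8, 11, 12, 13, 14],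
    [0, 2, 3, 4, 6, 7, 16, 19],
    [14],
    [],
    [1, 2, 3, 4, 6, 7, 8, 9, 10],
    [3, 4, 8, 14],
    [1, 2, 5, 6, 7, 14],
    [3, 4, 8, 14, 17],
    [1, 3, 4, 5, 6, 7, 8, 9, 10, 14],
    [3, 4, 5, 6, 7, 8, 9, 14],
    [2, 5, 6, 7, 8, 9, 14],
    [1, 8],
    [5, 6, 8, 9, 10],
    [5, 6, 7, 8, 9],
    [1, 3, 4, 5, 6, 7, 9, 11, 12, 13]]

/-- The certificate. -/
def tab2 : TableCert where
  P := pc2
  ews := [[0, 2, 1, 0, 2, 1, 0, 2, 0, 2, 0, 1, 2, 1, 0, 1, 2, 0],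
    [0, 1, 2, 0, 1, 0, 1, 2, 1, 0, 2, 1, 2, 0, 1, 0],
    [1, 2, 0, 2, 0, 1, 2, 1, 0, 2, 1, 0, 1, 0, 1, 2, 0, 2, 1, 0, 2, 0, 2, 0, 1],
    [0, 1, 2, 0, 1, 2, 1, 0, 2, 0, 2, 0, 1, 2, 0, 2, 0, 1, 0, 1, 0],
    [0, 1, 0, 2, 1, 2, 0, 1, 2, 1, 0, 2, 1, 2, 0, 1, 0],
    [0, 1, 0, 1, 0, 2, 0, 1, 0, 1, 0],
    [0, 1, 0, 2, 1, 0, 2, 0, 2, 0, 1, 2, 1, 0, 2, 0, 1, 0, 1, 0]]
  gws := [[0, 1, 0, 2, 1, 0, 2, 0, 1, 0, 2, 1, 2, 0, 2, 0, 1, 0, 2, 0],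
    [1, 2, 1, 0, 2, 1, 0, 1, 0, 2, 0, 1, 2, 0, 2, 1, 2, 1, 0],
    [1, 2, 0, 2, 0, 1, 2, 0, 2, 1, 0, 2, 0, 2, 1],
    [0, 2, 0, 1, 2, 1, 0, 1, 2, 0, 1, 0, 1, 0, 2, 0, 2, 1, 0, 2, 0, 1]]
  C := conj2
  K := cert2
  els := els2

theorem tab2_rel : tab2.chkRel actA [0, 1, 2, 3, 4, 5, 6, 7, 8, 9, 10, 11, 12, 13, 14, 15, 16, 17, 18, 19, 20, 21, 22, 23] = true := by decide +kernel

theorem tab2_card : tab2.chkCard actA [0, 1, 2, 3, 4, 5, 6, 7, 8, 9, 10, 11, 12, 13, 14, 15, 16, 17, 18, 19, 20, 21, 22, 23] = true := by decide +kernel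

theorem tab2_tails : tab2.K.check tab2.P tab2.C = true := by decide +kernel

theorem pow_free2 : Cfsg.Agent.Spor.Cos.ev gT (tab2.flat (List.replicate 4 2)) = Cfsg.Agent.Spor.Cos.ev gT [] :=
  Cfsg.Agent.Spor.Cos.ev_eq_of_agree homA det (by decide +kernel) (by decide +kernel) (by decide +kernel)

/-- The certificate with exponent four. -/
theorem sylow2 : ∃ S : SylowExp G22 2, S.m = 4 :=
  TableCert.sylowExp_m homA (by decide +kernel) det card_G22 rfl (by decide) tab2_rel tab2_card tab2_tails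
    (j := 2) (i := 0) (by decide +kernel) rfl rfl (m := 4) pow_free2 (by decide +kernel)

end Cfsg.Agent.Spor.MTwentyTwo
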