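import Cfsg.Agent.Lib.Grp.SchurM.TailTable
import Cfsg.Agent.Lib.Spor.MTwentyTwoMult.Two

/-! A Sylow 5-subgroup of the two-point stabiliser of the code with equations for the tails. -/

set_option autoImplicit false
set_option maxRecDepth 100000
set_option maxHeartbeats 8000000

open Cfsg.Agent.Grp.SchurM.Tails

namespace Cfsg.Agent.Spor.MTwentyTwo

/-- Presentation of the Sylow 5-subgroup. -/
def pc5 : PC where
  p := 5
  n := 1
  rhs := [[]]
  defs := []

/-- Elements of the Sylow 5-subgroup. -/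
def els5 : List (List ℕ) :=
   [[0, 0, 0],
    [0, 0, 0, 0],
    [0],
    [0, 0],
    []]

/-- Conjugation data. -/
def conj5 : List Conj :=
   [(0, [0, 0, 0, 0], [0, 0, 0])]

/-- Equations between tails. -/
def cert5 : Cert where
  eqns := [.fus [0] [0, 0, 0, 0, 0] []]
  free := 1
  combo := [[0]]

/-- The certificate. -/
def tab5 : TableCert where
  P := pc5
  ews := [[2, 0, 1, 2, 0, 2, 0, 1, 2, 1, 0, 1, 2, 0, 2, 1, 0, 2, 0, 1, 0, 1]]
  gws := [[0, 2, 0, 1, 2, 1, 0, 2, 1, 0, 2, 1, 0, 1, 0, 2, 0, 1, 2]]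
  C := conj5
  K := cert5
  els := els5

theorem tab5_rel : tab5.chkRel actA [0, 1, 2, 3, 4, 5, 6, 7, 8, 9, 10, 11, 12, 13, 14, 15, 16, 17, 18, 19, 20, 21, 22, 23] = true := by decide +kernel

theorem tab5_card : tab5.chkCard actA [0, 1, 2, 3, 4, 5, 6, 7, 8, 9, 10, 11, 12, 13, 14, 15, 16, 17, 18, 19, 20, 21, 22, 23] = true := by decide +kernel

theorem tab5_tails : tab5.K.check tab5.P tab5.C = true := by decide +kernel

theorem sylow5 : Nonempty (SylowCert G22 5) :=
  TableCert.sylowCert homA (by decide +kernel) det card_G22 rfl (by decide) tab5_rel tab5_card tab5_tails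
    (le_of_eq rfl) (by decide +kernel)

end Cfsg.Agent.Spor.MTwentyTwo
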