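import Cfsg.Agent.Lib.Spor.MTwentyTwoMult.Tail2
import Cfsg.Agent.Lib.Spor.MTwentyTwoMult.Tail3
import Cfsg.Agent.Lib.Spor.MTwentyTwoMult.Tail5
import Cfsg.Agent.Lib.Spor.MTwentyTwoMult.Tail7
import Cfsg.Agent.Lib.Spor.MTwentyTwoMult.Tail11
import Cfsg.Agent.Lib.Spor.MTwentyTwoMult.SignComm
import Cfsg.Agent.Lib.Grp.SchurM.SixBound
import Cfsg.Agent.Lib.Grp.SchurM.SylowBounds

/-! The multiplier of the two-point stabiliser of the code is cyclic of order twelve. -/

set_option autoImplicit false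
set_option maxRecDepth 100000
set_option maxHeartbeats 4000000
set_option linter.style.haveILetI false

open Cfsg Cfsg.Agent.Spor.Cos Cfsg.Agent.Grp.SchurM Cfsg.Agent.Grp.SchurM.Tails

namespace Cfsg.Agent.Spor.MTwentyTwo

universe u

/-- Stem kernels are generated by an element of order dividing twelve. -/
theorem exists_gen {Δ : Type u} [Group Δ] [Finite Δ] (σ : Δ →* G22) (hσ : Cfsg.IsStemExtension σ) :
    ∃ c ∈ σ.ker, c ^ 12 = 1 ∧ σ.ker ≤ Subgroup.zpowers c := by
  obtain ⟨S, hS⟩ := sylow2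
  obtain ⟨T, hT⟩ := sylow3
  have h := exists_gen_of_two S T (by rw [hS, hT]; decide) (fun q hq h2 h3 hd => ?_) σ hσ
  · rwa [hS, hT] at h
  rw [card_G22, show 443520 = 2 ^ 7 * 3 ^ 2 * 5 * 7 * 11 by norm_num] at hd
  have key : ∀ r : ℕ, r.Prime → q ∣ r → q = r := fun r hr h => (Nat.prime_dvd_prime_iff_eq hq hr).1 h
  rcases (Nat.Prime.dvd_mul hq).1 hd with hd | h11
  · rcases (Nat.Prime.dvd_mul hq).1 hd with hd | h7
    · rcases (Nat.Prime.dvd_mul hq).1 hd with hd | h5
      · rcases (Nat.Prime.dvd_mul hq).1 hd with hd | hd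
        · exact absurd (key 2 Nat.prime_two (hq.dvd_of_dvd_pow hd)) h2
        · exact absurd (key 3 Nat.prime_three (hq.dvd_of_dvd_pow hd)) h3
      · obtain rfl := key 5 (by norm_num) h5
        exact sylow5
    · obtain rfl := key 7 (by norm_num) h7
      exact sylow7
  · obtain rfl := key 11 (by norm_num) h11
    exact sylow11

theorem multiplier : Cfsg.HasCyclicSchurMultiplier G22 12 := by
  refine ⟨?_, fun Δ _ _ σ hσ => ?_⟩
  · obtain ⟨θH, hH⟩ := exists_homH
    obtain ⟨θP, hP⟩ := exists_homP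
    obtain ⟨h4, c4, y4⟩ := okH.stem (G := G22) hH homOne rfl gen shiftH commH
    obtain ⟨h3, c3, y3⟩ := okP.stem (G := G22) hP homOne rfl gen shiftP commP
    have := okH.finite (G := G22)
    have := okP.finite (G := G22)
    exact exists_stem_pullback _ _ h4 h3 y4 y3 c4 c3 (by decide)
  · obtain ⟨c, hc, hc12, hle⟩ := exists_gen σ hσ
    exact exists_surjective_zmod _ c hc hc12 hle

end Cfsg.Agent.Spor.MTwentyTwo
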